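import Cfsg.Agent.Lib.Helper58.UPair.Defs

/-!
# Project UPair (S5984): package [NONSC]

`0 < rank (x - c) < n` implies that `x` is not a scalar matrix.
-/

set_option autoImplicit false
open scoped MatrixGroups Matrix

namespace Cfsg.Agent.Lib.Helper29.UPair

open Cfsg.Agent.Lib.Helper58.UPair

universe u

theorem pkgNonSc : PkgNonScalar.{u} := by
  intro F _ n x c hpos hlt z hz
  have hsh : sh x c = (z - c) • (1 : Matrix (Fin n) (Fin n) F) := by
    simp only [sh, hz, sub_smul]
  by_cases hzc : z = c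
  · rw [hsh, hzc, sub_self, zero_smul, Matrix.rank_zero] at hpos
    exact lt_irrefl _ hpos
  · have hne : z - c ≠ 0 := sub_ne_zero.mpr hzc
    have hu : IsUnit ((z - c) • (1 : Matrix (Fin n) (Fin n) F)) := by
      refine IsUnit.of_mul_eq_one ((z - c)⁻¹ • (1 : Matrix (Fin n) (Fin n) F)) ?_
      rw [Matrix.smul_mul, Matrix.one_mul, smul_smul, mul_inv_cancel₀ hne, one_smul]
    have hr : (sh x c).rank = n := by
      rw [hsh, Matrix.rank_of_isUnit _ hu, Fintype.card_fin]
    omega

end Cfsg.Agent.Lib.Helper29.UPair
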