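import Cfsg.Agent.Lib.Helper58.UPair.Defs

/-!
# Project UPair (S5984): package [SWAPRANK]

If `x` maps `D 0` onto `D 1` then `x - c` is injective on `D 0`, hence has rank at least `m`.
-/

set_option autoImplicit false
open scoped MatrixGroups Matrix

namespace Cfsg.Agent.Lib.Helper29.UPair

open Cfsg.Agent.Lib.Helper58.UPair

universe u

theorem pkgSwapRank : PkgSwapRank.{u} := by
  intro F _ n m D x c hD hx
  have hdisj : Disjoint (D 0) (D 1) := hD.indep.pairwiseDisjoint (by decide)
  have hinj : ∀ v ∈ D 0, (sh x c) *ᵥ v = 0 → v = 0 := by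
    intro v hv h0
    have h1 : (x : Matrix (Fin n) (Fin n) F) *ᵥ v = c • v := by
      have h : (sh x c) *ᵥ v = (x : Matrix (Fin n) (Fin n) F) *ᵥ v - c • v := by
        simp only [sh, Matrix.sub_mulVec, Matrix.smul_mulVec, Matrix.one_mulVec]
      rw [h] at h0
      exact sub_eq_zero.mp h0
    have h2 : (x : Matrix (Fin n) (Fin n) F) *ᵥ v ∈ D 1 := by
      rw [← hx]
      exact ⟨v, hv, by rw [Matrix.toLin'_apply]⟩
    have h3 : (x : Matrix (Fin n) (Fin n) F) *ᵥ v ∈ D 0 := by
      rw [h1]
      exact (D 0).smul_mem c hv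
    have h4 : (x : Matrix (Fin n) (Fin n) F) *ᵥ v = 0 :=
      Submodule.disjoint_def.mp hdisj _ h3 h2
    have h5 : ((x⁻¹ : GL (Fin n) F) : Matrix (Fin n) (Fin n) F) *ᵥ
        ((x : Matrix (Fin n) (Fin n) F) *ᵥ v) = v := by
      rw [Matrix.mulVec_mulVec, ← Units.val_mul, inv_mul_cancel, Units.val_one, Matrix.one_mulVec]
    rw [h4, Matrix.mulVec_zero] at h5
    exact h5.symm
  have hle : Module.finrank F (D 0) ≤ Module.finrank F (LinearMap.range (sh x c).mulVecLin) := by
    let f : D 0 →ₗ[F] LinearMap.range (sh x c).mulVecLin :=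
      ((sh x c).mulVecLin.domRestrict (D 0)).codRestrict _ (fun v => ⟨v, rfl⟩)
    apply LinearMap.finrank_le_finrank_of_injective (f := f)
    rw [← LinearMap.ker_eq_bot, LinearMap.ker_eq_bot']
    intro v hv
    have h0 : (sh x c) *ᵥ (v : Fin n → F) = 0 := by
      have := congrArg Subtype.val hv
      exact this
    exact Subtype.ext (hinj v v.2 h0)
  have hrank : (sh x c).rank = Module.finrank F (LinearMap.range (sh x c).mulVecLin) := rfl
  rw [hrank, ← hD.finrank_eq 0]
  exact hle

end Cfsg.Agent.Lib.Helper29.UPair
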